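import Cfsg.Agent.Lib.Helper6.TCD.Y5R.NCP0
import Cfsg.Agent.Lib.Helper6.TCD.Y5R.NCP1
import Cfsg.Agent.Lib.Helper6.TCD.Y5R.NCP2
set_option autoImplicit false
namespace Cfsg.Agent.Lib.Helper6.TCD.Y5R
noncomputable def NCT0 (i : Nat) : Nat := Bool.rec (NCP0N62 i) (NCP1N62 i) (Nat.ble 32768 i)
noncomputable def NC (i : Nat) : Nat := Bool.rec (NCT0 i) (NCP2N30 i) (Nat.ble 65536 i)
end Cfsg.Agent.Lib.Helper6.TCD.Y5R
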