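set_option autoImplicit false
namespace Cfsg.Agent.Lib.Helper6.TCD.Y5R
noncomputable def WI (i : Nat) : Nat := Nat.land (Nat.shiftRight 0x2106f0737831bc14de086f0337811bc04de006e0837039b818dc0a6e0437019b808dc026e0037009b000d8026a0035009a000d0026600330099000c8026200310098000c0025e002f0097000b8025a002d0096000b00256002b0095000a8025200290094000a0024e0027009300098024a00250092000900246002300910008802420021009000080023e001f008f00078023a001d008e000700236001b008d0006802320019008c00060022e0017008b00058022a0015008a000500226001300890004802220011008800040021e000f008700038021a000d0086000300216000b00850002800120008000380018000a000400018000800020000 (Nat.mul 17 (Nat.land i 255))) 131071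
end Cfsg.Agent.Lib.Helper6.TCD.Y5R
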