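import Cfsg.Agent.Lib.Helper6.TCD.Y5R.SH
import Cfsg.Agent.Lib.Helper6.TCD.Y5R.SC
import Cfsg.Agent.Lib.Helper6.TCD.Y5R.NH
import Cfsg.Agent.Lib.Helper6.TCD.Y5R.NC
import Cfsg.Agent.Lib.Helper6.TCD.Y5R.WD
import Cfsg.Agent.Lib.Helper6.TCD.Y5R.WI
set_option autoImplicit false
namespace Cfsg.Agent.Lib.Helper6.TCD.Y5R
def n : Nat := 81695
def ncol : Nat := 10
def nrw : Nat := 118
def nw : Nat := 127
def tmax : Nat := 681763
def INV : Nat := 654820258320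
def N : Nat := 31671
end Cfsg.Agent.Lib.Helper6.TCD.Y5R
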