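import Cfsg.Agent.Lib.Helper6.TCD.Y5R.CS0
import Cfsg.Agent.Lib.Helper6.TCD.Y5R.CS1
import Cfsg.Agent.Lib.Helper6.TCD.Y5R.CS2
import Cfsg.Agent.Lib.Helper6.TCD.Y5R.CS3
import Cfsg.Agent.Lib.Helper6.TCD.Y5R.CS4
import Cfsg.Agent.Lib.Helper6.TCD.Y5R.CS5
import Cfsg.Agent.Lib.Helper6.TCD.Y5R.CS6
import Cfsg.Agent.Lib.Helper6.TCD.Y5R.CS7
import Cfsg.Agent.Lib.Helper6.TCD.Y5R.CS8
import Cfsg.Agent.Lib.Helper6.TCD.Y5R.CS9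
import Cfsg.Agent.Lib.Helper6.TCD.Y5R.CS10
import Cfsg.Agent.Lib.Helper6.TCD.Y5R.CS11
import Cfsg.Agent.Lib.Helper6.TCD.Y5R.CS12
import Cfsg.Agent.Lib.Helper6.TCD.Y5R.CS13
import Cfsg.Agent.Lib.Helper6.TCD.Y5R.CS14
import Cfsg.Agent.Lib.Helper6.TCD.Y5R.CS15
import Cfsg.Agent.Lib.Helper6.TCD.Y5R.CS16
import Cfsg.Agent.Lib.Helper6.TCD.Y5R.CS17
import Cfsg.Agent.Lib.Helper6.TCD.Y5R.CS18
import Cfsg.Agent.Lib.Helper6.TCD.Y5R.CS19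
import Cfsg.Agent.Lib.Helper6.TCD.Y5R.CS20
import Cfsg.Agent.Lib.Helper6.TCD.Y5R.CS21
import Cfsg.Agent.Lib.Helper6.TCD.Y5R.CS22
import Cfsg.Agent.Lib.Helper6.TCD.Y5R.CS23
import Cfsg.Agent.Lib.Helper6.TCD.Y5R.CS24
import Cfsg.Agent.Lib.Helper6.TCD.Y5R.CS25
import Cfsg.Agent.Lib.Helper6.TCD.Y5R.CS26
import Cfsg.Agent.Lib.Helper6.TCD.Y5R.CS27
import Cfsg.Agent.Lib.Helper6.TCD.Y5R.CS28
import Cfsg.Agent.Lib.Helper6.TCD.Y5R.CS29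
import Cfsg.Agent.Lib.Helper6.TCD.Y5R.CS30
import Cfsg.Agent.Lib.Helper6.TCD.Y5R.CS31
import Cfsg.Agent.Lib.Helper6.TCD.Y5R.CS32
import Cfsg.Agent.Lib.Helper6.TCD.Y5R.CS33
import Cfsg.Agent.Lib.Helper6.TCD.Y5R.CS34
import Cfsg.Agent.Lib.Helper6.TCD.Y5R.CS35
import Cfsg.Agent.Lib.Helper6.TCD.Y5R.CS36
import Cfsg.Agent.Lib.Helper6.TCD.Y5R.CS37
import Cfsg.Agent.Lib.Helper6.TCD.Y5R.CS38
import Cfsg.Agent.Lib.Helper6.TCD.Y5R.CS39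
import Cfsg.Agent.Lib.Helper6.TCD.Y5R.CS40
import Cfsg.Agent.Lib.Helper6.TCD.Y5R.CS41
import Cfsg.Agent.Lib.Helper6.TCD.Y5R.CS42
import Cfsg.Agent.Lib.Helper6.TCD.Y5R.CS43
import Cfsg.Agent.Lib.Helper6.TCD.Y5R.CS44
import Cfsg.Agent.Lib.Helper6.TCD.Y5R.CS45
import Cfsg.Agent.Lib.Helper6.TCD.Y5R.CS46
import Cfsg.Agent.Lib.Helper6.TCD.Y5R.CS47
import Cfsg.Agent.Lib.Helper6.TCD.Y5R.CS48
import Cfsg.Agent.Lib.Helper6.TCD.Y5R.CS49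
import Cfsg.Agent.Lib.Helper6.TCD.Y5R.CS50
import Cfsg.Agent.Lib.Helper6.TCD.Y5R.CS51
import Cfsg.Agent.Lib.Helper6.TCD.Y5R.CS52
import Cfsg.Agent.Lib.Helper6.TCD.Y5R.CS53
import Cfsg.Agent.Lib.Helper6.TCD.Y5R.CS54
import Cfsg.Agent.Lib.Helper6.TCD.Y5R.CS55
import Cfsg.Agent.Lib.Helper6.TCD.Y5R.CS56
import Cfsg.Agent.Lib.Helper6.TCD.Y5R.CS57
import Cfsg.Agent.Lib.Helper6.TCD.Y5R.CS58
import Cfsg.Agent.Lib.Helper6.TCD.Y5R.CS59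
import Cfsg.Agent.Lib.Helper6.TCD.Y5R.CS60
import Cfsg.Agent.Lib.Helper6.TCD.Y5R.CS61
import Cfsg.Agent.Lib.Helper6.TCD.Y5R.CS62
import Cfsg.Agent.Lib.Helper6.TCD.Y5R.CS63
import Cfsg.Agent.Lib.Helper6.TCD.Y5R.CS64
import Cfsg.Agent.Lib.Helper6.TCD.Y5R.CS65
import Cfsg.Agent.Lib.Helper6.TCD.Y5R.CS66
import Cfsg.Agent.Lib.Helper6.TCD.Y5R.CS67
import Cfsg.Agent.Lib.Helper6.TCD.Y5R.CS68
import Cfsg.Agent.Lib.Helper6.TCD.Y5R.CS69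
import Cfsg.Agent.Lib.Helper6.TCD.Y5R.CS70
import Cfsg.Agent.Lib.Helper6.TCD.Y5R.CS71
import Cfsg.Agent.Lib.Helper6.TCD.Y5R.CS72
import Cfsg.Agent.Lib.Helper6.TCD.Y5R.CS73
import Cfsg.Agent.Lib.Helper6.TCD.Y5R.CS74
import Cfsg.Agent.Lib.Helper6.TCD.Y5R.CS75
import Cfsg.Agent.Lib.Helper6.TCD.Y5R.CS76
import Cfsg.Agent.Lib.Helper6.TCD.Y5R.CS77
import Cfsg.Agent.Lib.Helper6.TCD.Y5R.CS78
import Cfsg.Agent.Lib.Helper6.TCD.Y5R.CS79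
import Cfsg.Agent.Lib.Helper6.TCD.Y5R.CS80
import Cfsg.Agent.Lib.Helper6.TCD.Y5R.CS81
import Cfsg.Agent.Lib.Helper6.TCD.Y5R.CS82
import Cfsg.Agent.Lib.Helper6.TCD.Y5R.CS83
import Cfsg.Agent.Lib.Helper6.TCD.Y5R.CS84
import Cfsg.Agent.Lib.Helper6.TCD.Y5R.CS85
import Cfsg.Agent.Lib.Helper6.TCD.Y5R.CS86
import Cfsg.Agent.Lib.Helper6.TCD.Y5R.CS87
import Cfsg.Agent.Lib.Helper6.TCD.Y5R.CS88
import Cfsg.Agent.Lib.Helper6.TCD.Y5R.CS89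
import Cfsg.Agent.Lib.Helper6.TCD.Y5R.CS90
import Cfsg.Agent.Lib.Helper6.TCD.Y5R.CS91
import Cfsg.Agent.Lib.Helper6.TCD.Y5R.CS92
import Cfsg.Agent.Lib.Helper6.TCD.Y5R.CS93
import Cfsg.Agent.Lib.Helper6.TCD.Y5R.CS94
import Cfsg.Agent.Lib.Helper6.TCD.Y5R.CS95
import Cfsg.Agent.Lib.Helper6.TCD.Y5R.CS96
import Cfsg.Agent.Lib.Helper6.TCD.Y5R.CS97
import Cfsg.Agent.Lib.Helper6.TCD.Y5R.CS98
import Cfsg.Agent.Lib.Helper6.TCD.Y5R.CS99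
import Cfsg.Agent.Lib.Helper6.TCD.Y5R.CS100
import Cfsg.Agent.Lib.Helper6.TCD.Y5R.CS101
import Cfsg.Agent.Lib.Helper6.TCD.Y5R.CS102
import Cfsg.Agent.Lib.Helper6.TCD.Y5R.CN0
import Cfsg.Agent.Lib.Helper6.TCD.Y5R.CN1
import Cfsg.Agent.Lib.Helper6.TCD.Y5R.CN2
import Cfsg.Agent.Lib.Helper6.TCD.Y5R.CN3
import Cfsg.Agent.Lib.Helper6.TCD.Y5R.CN4
import Cfsg.Agent.Lib.Helper6.TCD.Y5R.CN5
import Cfsg.Agent.Lib.Helper6.TCD.Y5R.CN6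
import Cfsg.Agent.Lib.Helper6.TCD.Y5R.CN7
import Cfsg.Agent.Lib.Helper6.TCD.Y5R.CN8
import Cfsg.Agent.Lib.Helper6.TCD.Y5R.CN9
import Cfsg.Agent.Lib.Helper6.TCD.Y5R.CN10
import Cfsg.Agent.Lib.Helper6.TCD.Y5R.CN11
import Cfsg.Agent.Lib.Helper6.TCD.Y5R.CN12
import Cfsg.Agent.Lib.Helper6.TCD.Y5R.CN13
import Cfsg.Agent.Lib.Helper6.TCD.Y5R.CC
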