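import Cfsg.Agent.Lib.Helper6.WP7
import Cfsg.Agent.Lib.Helper6.TCD.Y5R.All

set_option autoImplicit false
set_option maxRecDepth 100000

namespace Cfsg.Agent.Lib.Helper6.TCD.Y5R
open Cfsg.Agent.Lib.Helper6.TC

/-- the relators -/
def base : List (List ℕ) := [
  [0, 0],
  [1, 1],
  [2, 2],
  [3, 3],
  [4, 4],
  [5, 5],
  [6, 6],
  [7, 7],
  [8, 8],
  [9, 9],
  [0, 1, 0, 1, 0, 1],
  [0, 2, 0, 2],
  [0, 3, 0, 3],
  [0, 4, 0, 4],
  [0, 5, 0, 5],
  [0, 6, 0, 6],
  [0, 7, 0, 7],
  [0, 8, 0, 8],
  [0, 9, 0, 9],
  [1, 2, 1, 2, 1, 2],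
  [1, 3, 1, 3],
  [1, 4, 1, 4],
  [1, 5, 1, 5],
  [1, 6, 1, 6],
  [1, 7, 1, 7],
  [1, 8, 1, 8],
  [1, 9, 1, 9],
  [2, 3, 2, 3, 2, 3],
  [2, 4, 2, 4],
  [2, 5, 2, 5],
  [2, 6, 2, 6],
  [2, 7, 2, 7],
  [2, 8, 2, 8],
  [2, 9, 2, 9],
  [3, 4, 3, 4, 3, 4],
  [3, 5, 3, 5],
  [3, 6, 3, 6],
  [3, 7, 3, 7],
  [3, 8, 3, 8, 3, 8],
  [3, 9, 3, 9],
  [4, 5, 4, 5, 4, 5],
  [4, 6, 4, 6],
  [4, 7, 4, 7],
  [4, 8, 4, 8],
  [4, 9, 4, 9],
  [5, 6, 5, 6, 5, 6],
  [5, 7, 5, 7],
  [5, 8, 5, 8],
  [5, 9, 5, 9],
  [6, 7, 6, 7, 6, 7],
  [6, 8, 6, 8],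
  [6, 9, 6, 9],
  [7, 8, 7, 8],
  [7, 9, 7, 9],
  [8, 9, 8, 9, 8, 9],
  [3, 2, 1, 3, 4, 5, 3, 8, 9, 3, 2, 1, 3, 4, 5, 3, 8, 9, 3, 2, 1, 3, 4, 5, 3, 8, 9, 3, 2, 1, 3, 4, 5, 3, 8, 9, 3, 2, 1, 3, 4, 5, 3, 8, 9, 3, 2, 1, 3, 4, 5, 3, 8, 9, 3, 2, 1, 3, 4, 5, 3, 8, 9, 3, 2, 1, 3, 4, 5, 3, 8, 9, 3, 2, 1, 3, 4, 5, 3, 8, 9, 3, 2, 1, 3, 4, 5, 3, 8, 9]]

/-- the generators of the subgroup -/
def subw : List (List ℕ) := [[0], [1], [2], [3], [4], [5], [6], [8], [9]]

theorem chkW : allB (chkWord WD WI base subw INV ncol nrw) nw = true := by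
  decide +kernel

theorem hS : ∀ s < n * ncol, chkSlot SH SC NH NC WD n ncol nrw nw tmax INV s = true := by
  intro s hs
  have hs' : s < 816950 := hs
  by_cases h0 : s < 8000
  · exact allR_spec chkS0 s (by omega) (by omega)
  by_cases h1 : s < 16000
  · exact allR_spec chkS1 s (by omega) (by omega)
  by_cases h2 : s < 24000
  · exact allR_spec chkS2 s (by omega) (by omega)
  by_cases h3 : s < 32000
  · exact allR_spec chkS3 s (by omega) (by omega)
  by_cases h4 : s < 40000
  · exact allR_spec chkS4 s (by omega) (by omega)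
  by_cases h5 : s < 48000
  · exact allR_spec chkS5 s (by omega) (by omega)
  by_cases h6 : s < 56000
  · exact allR_spec chkS6 s (by omega) (by omega)
  by_cases h7 : s < 64000
  · exact allR_spec chkS7 s (by omega) (by omega)
  by_cases h8 : s < 72000
  · exact allR_spec chkS8 s (by omega) (by omega)
  by_cases h9 : s < 80000
  · exact allR_spec chkS9 s (by omega) (by omega)
  by_cases h10 : s < 88000
  · exact allR_spec chkS10 s (by omega) (by omega)
  by_cases h11 : s < 96000
  · exact allR_spec chkS11 s (by omega) (by omega)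
  by_cases h12 : s < 104000
  · exact allR_spec chkS12 s (by omega) (by omega)
  by_cases h13 : s < 112000
  · exact allR_spec chkS13 s (by omega) (by omega)
  by_cases h14 : s < 120000
  · exact allR_spec chkS14 s (by omega) (by omega)
  by_cases h15 : s < 128000
  · exact allR_spec chkS15 s (by omega) (by omega)
  by_cases h16 : s < 136000
  · exact allR_spec chkS16 s (by omega) (by omega)
  by_cases h17 : s < 144000
  · exact allR_spec chkS17 s (by omega) (by omega)
  by_cases h18 : s < 152000
  · exact allR_spec chkS18 s (by omega) (by omega)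
  by_cases h19 : s < 160000
  · exact allR_spec chkS19 s (by omega) (by omega)
  by_cases h20 : s < 168000
  · exact allR_spec chkS20 s (by omega) (by omega)
  by_cases h21 : s < 176000
  · exact allR_spec chkS21 s (by omega) (by omega)
  by_cases h22 : s < 184000
  · exact allR_spec chkS22 s (by omega) (by omega)
  by_cases h23 : s < 192000
  · exact allR_spec chkS23 s (by omega) (by omega)
  by_cases h24 : s < 200000
  · exact allR_spec chkS24 s (by omega) (by omega)
  by_cases h25 : s < 208000
  · exact allR_spec chkS25 s (by omega) (by omega)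
  by_cases h26 : s < 216000
  · exact allR_spec chkS26 s (by omega) (by omega)
  by_cases h27 : s < 224000
  · exact allR_spec chkS27 s (by omega) (by omega)
  by_cases h28 : s < 232000
  · exact allR_spec chkS28 s (by omega) (by omega)
  by_cases h29 : s < 240000
  · exact allR_spec chkS29 s (by omega) (by omega)
  by_cases h30 : s < 248000
  · exact allR_spec chkS30 s (by omega) (by omega)
  by_cases h31 : s < 256000
  · exact allR_spec chkS31 s (by omega) (by omega)
  by_cases h32 : s < 264000
  · exact allR_spec chkS32 s (by omega) (by omega)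
  by_cases h33 : s < 272000
  · exact allR_spec chkS33 s (by omega) (by omega)
  by_cases h34 : s < 280000
  · exact allR_spec chkS34 s (by omega) (by omega)
  by_cases h35 : s < 288000
  · exact allR_spec chkS35 s (by omega) (by omega)
  by_cases h36 : s < 296000
  · exact allR_spec chkS36 s (by omega) (by omega)
  by_cases h37 : s < 304000
  · exact allR_spec chkS37 s (by omega) (by omega)
  by_cases h38 : s < 312000
  · exact allR_spec chkS38 s (by omega) (by omega)
  by_cases h39 : s < 320000
  · exact allR_spec chkS39 s (by omega) (by omega)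
  by_cases h40 : s < 328000
  · exact allR_spec chkS40 s (by omega) (by omega)
  by_cases h41 : s < 336000
  · exact allR_spec chkS41 s (by omega) (by omega)
  by_cases h42 : s < 344000
  · exact allR_spec chkS42 s (by omega) (by omega)
  by_cases h43 : s < 352000
  · exact allR_spec chkS43 s (by omega) (by omega)
  by_cases h44 : s < 360000
  · exact allR_spec chkS44 s (by omega) (by omega)
  by_cases h45 : s < 368000
  · exact allR_spec chkS45 s (by omega) (by omega)
  by_cases h46 : s < 376000
  · exact allR_spec chkS46 s (by omega) (by omega)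
  by_cases h47 : s < 384000
  · exact allR_spec chkS47 s (by omega) (by omega)
  by_cases h48 : s < 392000
  · exact allR_spec chkS48 s (by omega) (by omega)
  by_cases h49 : s < 400000
  · exact allR_spec chkS49 s (by omega) (by omega)
  by_cases h50 : s < 408000
  · exact allR_spec chkS50 s (by omega) (by omega)
  by_cases h51 : s < 416000
  · exact allR_spec chkS51 s (by omega) (by omega)
  by_cases h52 : s < 424000
  · exact allR_spec chkS52 s (by omega) (by omega)
  by_cases h53 : s < 432000
  · exact allR_spec chkS53 s (by omega) (by omega)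
  by_cases h54 : s < 440000
  · exact allR_spec chkS54 s (by omega) (by omega)
  by_cases h55 : s < 448000
  · exact allR_spec chkS55 s (by omega) (by omega)
  by_cases h56 : s < 456000
  · exact allR_spec chkS56 s (by omega) (by omega)
  by_cases h57 : s < 464000
  · exact allR_spec chkS57 s (by omega) (by omega)
  by_cases h58 : s < 472000
  · exact allR_spec chkS58 s (by omega) (by omega)
  by_cases h59 : s < 480000
  · exact allR_spec chkS59 s (by omega) (by omega)
  by_cases h60 : s < 488000
  · exact allR_spec chkS60 s (by omega) (by omega)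
  by_cases h61 : s < 496000
  · exact allR_spec chkS61 s (by omega) (by omega)
  by_cases h62 : s < 504000
  · exact allR_spec chkS62 s (by omega) (by omega)
  by_cases h63 : s < 512000
  · exact allR_spec chkS63 s (by omega) (by omega)
  by_cases h64 : s < 520000
  · exact allR_spec chkS64 s (by omega) (by omega)
  by_cases h65 : s < 528000
  · exact allR_spec chkS65 s (by omega) (by omega)
  by_cases h66 : s < 536000
  · exact allR_spec chkS66 s (by omega) (by omega)
  by_cases h67 : s < 544000
  · exact allR_spec chkS67 s (by omega) (by omega)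
  by_cases h68 : s < 552000
  · exact allR_spec chkS68 s (by omega) (by omega)
  by_cases h69 : s < 560000
  · exact allR_spec chkS69 s (by omega) (by omega)
  by_cases h70 : s < 568000
  · exact allR_spec chkS70 s (by omega) (by omega)
  by_cases h71 : s < 576000
  · exact allR_spec chkS71 s (by omega) (by omega)
  by_cases h72 : s < 584000
  · exact allR_spec chkS72 s (by omega) (by omega)
  by_cases h73 : s < 592000
  · exact allR_spec chkS73 s (by omega) (by omega)
  by_cases h74 : s < 600000
  · exact allR_spec chkS74 s (by omega) (by omega)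
  by_cases h75 : s < 608000
  · exact allR_spec chkS75 s (by omega) (by omega)
  by_cases h76 : s < 616000
  · exact allR_spec chkS76 s (by omega) (by omega)
  by_cases h77 : s < 624000
  · exact allR_spec chkS77 s (by omega) (by omega)
  by_cases h78 : s < 632000
  · exact allR_spec chkS78 s (by omega) (by omega)
  by_cases h79 : s < 640000
  · exact allR_spec chkS79 s (by omega) (by omega)
  by_cases h80 : s < 648000
  · exact allR_spec chkS80 s (by omega) (by omega)
  by_cases h81 : s < 656000
  · exact allR_spec chkS81 s (by omega) (by omega)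
  by_cases h82 : s < 664000
  · exact allR_spec chkS82 s (by omega) (by omega)
  by_cases h83 : s < 672000
  · exact allR_spec chkS83 s (by omega) (by omega)
  by_cases h84 : s < 680000
  · exact allR_spec chkS84 s (by omega) (by omega)
  by_cases h85 : s < 688000
  · exact allR_spec chkS85 s (by omega) (by omega)
  by_cases h86 : s < 696000
  · exact allR_spec chkS86 s (by omega) (by omega)
  by_cases h87 : s < 704000
  · exact allR_spec chkS87 s (by omega) (by omega)
  by_cases h88 : s < 712000
  · exact allR_spec chkS88 s (by omega) (by omega)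
  by_cases h89 : s < 720000
  · exact allR_spec chkS89 s (by omega) (by omega)
  by_cases h90 : s < 728000
  · exact allR_spec chkS90 s (by omega) (by omega)
  by_cases h91 : s < 736000
  · exact allR_spec chkS91 s (by omega) (by omega)
  by_cases h92 : s < 744000
  · exact allR_spec chkS92 s (by omega) (by omega)
  by_cases h93 : s < 752000
  · exact allR_spec chkS93 s (by omega) (by omega)
  by_cases h94 : s < 760000
  · exact allR_spec chkS94 s (by omega) (by omega)
  by_cases h95 : s < 768000
  · exact allR_spec chkS95 s (by omega) (by omega)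
  by_cases h96 : s < 776000
  · exact allR_spec chkS96 s (by omega) (by omega)
  by_cases h97 : s < 784000
  · exact allR_spec chkS97 s (by omega) (by omega)
  by_cases h98 : s < 792000
  · exact allR_spec chkS98 s (by omega) (by omega)
  by_cases h99 : s < 800000
  · exact allR_spec chkS99 s (by omega) (by omega)
  by_cases h100 : s < 808000
  · exact allR_spec chkS100 s (by omega) (by omega)
  by_cases h101 : s < 816000
  · exact allR_spec chkS101 s (by omega) (by omega)
  by_cases h102 : s < 816950
  · exact allR_spec chkS102 s (by omega) (by omega)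
  omega

theorem hN : ∀ ν < n, chkName SH NH NC WD n ncol nrw nw tmax ν = true := by
  intro ν hν
  have hν' : ν < 81695 := hν
  by_cases h0 : ν < 6000
  · exact allR_spec chkN0 ν (by omega) (by omega)
  by_cases h1 : ν < 12000
  · exact allR_spec chkN1 ν (by omega) (by omega)
  by_cases h2 : ν < 18000
  · exact allR_spec chkN2 ν (by omega) (by omega)
  by_cases h3 : ν < 24000
  · exact allR_spec chkN3 ν (by omega) (by omega)
  by_cases h4 : ν < 30000
  · exact allR_spec chkN4 ν (by omega) (by omega)
  by_cases h5 : ν < 36000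
  · exact allR_spec chkN5 ν (by omega) (by omega)
  by_cases h6 : ν < 42000
  · exact allR_spec chkN6 ν (by omega) (by omega)
  by_cases h7 : ν < 48000
  · exact allR_spec chkN7 ν (by omega) (by omega)
  by_cases h8 : ν < 54000
  · exact allR_spec chkN8 ν (by omega) (by omega)
  by_cases h9 : ν < 60000
  · exact allR_spec chkN9 ν (by omega) (by omega)
  by_cases h10 : ν < 66000
  · exact allR_spec chkN10 ν (by omega) (by omega)
  by_cases h11 : ν < 72000
  · exact allR_spec chkN11 ν (by omega) (by omega)
  by_cases h12 : ν < 78000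
  · exact allR_spec chkN12 ν (by omega) (by omega)
  by_cases h13 : ν < 81695
  · exact allR_spec chkN13 ν (by omega) (by omega)
  omega

theorem hL : ∀ ν < n, chkLive SH NH n ncol tmax ν = true := by
  intro ν hν
  have hν' : ν < 81695 := hν
  by_cases h0 : ν < 6000
  · exact allR_spec chkL0 ν (by omega) (by omega)
  by_cases h1 : ν < 12000
  · exact allR_spec chkL1 ν (by omega) (by omega)
  by_cases h2 : ν < 18000
  · exact allR_spec chkL2 ν (by omega) (by omega)
  by_cases h3 : ν < 24000
  · exact allR_spec chkL3 ν (by omega) (by omega)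
  by_cases h4 : ν < 30000
  · exact allR_spec chkL4 ν (by omega) (by omega)
  by_cases h5 : ν < 36000
  · exact allR_spec chkL5 ν (by omega) (by omega)
  by_cases h6 : ν < 42000
  · exact allR_spec chkL6 ν (by omega) (by omega)
  by_cases h7 : ν < 48000
  · exact allR_spec chkL7 ν (by omega) (by omega)
  by_cases h8 : ν < 54000
  · exact allR_spec chkL8 ν (by omega) (by omega)
  by_cases h9 : ν < 60000
  · exact allR_spec chkL9 ν (by omega) (by omega)
  by_cases h10 : ν < 66000
  · exact allR_spec chkL10 ν (by omega) (by omega)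
  by_cases h11 : ν < 72000
  · exact allR_spec chkL11 ν (by omega) (by omega)
  by_cases h12 : ν < 78000
  · exact allR_spec chkL12 ν (by omega) (by omega)
  by_cases h13 : ν < 81695
  · exact allR_spec chkL13 ν (by omega) (by omega)
  omega

theorem hinv1 : ∀ c < 10, invc INV c < 10 := by
  intro c hc
  interval_cases c <;> decide

theorem hpair : ∀ c < 10, [c, invc INV c] ∈ base ∨ [invc INV c, c] ∈ base := by
  intro c hc
  interval_cases c <;> decide +kernel

theorem hbl : ∀ b ∈ base, ∀ c ∈ b, c < 10 := by decide +kernel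

/-- the index of the subgroup is at most `31671` -/
theorem idx : (subH (wrels 10 base) (wset 10 subw)).index ≤ 31671 ∧
    (subH (wrels 10 base) (wset 10 subw)).index ≠ 0 := by
  have h := wp_index_le' (k := 10) (base := base) (subw := subw) (SH := SH) (SC := SC) (NH := NH)
    (NC := NC) (WD := WD) (WI := WI) (n := n) (nrw := nrw) (nw := nw) (tmax := tmax) (INV := INV)
    (by decide) (by decide) hinv1 hpair hbl (fun j hj => allB_spec chkW j hj) hS hN hL
  have e : cntLive NH n tmax n = 31671 := chkC
  rw [e] at h
  exact h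

end Cfsg.Agent.Lib.Helper6.TCD.Y5R
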